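import Mathlib

/-! A function can be corrected by a unit so that it is smooth at finitely many points. -/

set_option autoImplicit false

universe u

open TensorProduct KaehlerDifferential Polynomial

namespace Groth.Agent.MovSmoothFn

/-- A formally smooth local algebra over `k` is formally smooth over `k[X]` when the differential of
the image of `X` does not vanish in the fibre. -/
theorem formallySmooth_polynomial (k L : Type u) [CommRing k] [CommRing L] [IsLocalRing L]
    [Algebra k L] [Algebra k[X] L] [IsScalarTower k k[X] L] [Algebra.FormallySmooth k L]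
    [Module.Finite L Ω[L⁄k]]
    (h : (1 : IsLocalRing.ResidueField L) ⊗ₜ[L] D k L (algebraMap k[X] L X) ≠ 0) :
    Algebra.FormallySmooth k[X] L := by
  haveI : Module.Free L Ω[L⁄k] := Module.free_of_flat_of_isLocalRing
  let b := Module.Free.chooseBasis L Ω[L⁄k]
  set v := D k L (algebraMap k[X] L X)
  obtain ⟨i, hi⟩ : ∃ i, IsUnit (b.repr v i) := by
    by_contra hne
    push Not at hne
    apply h
    rw [← b.linearCombination_repr v, Finsupp.linearCombination_apply, Finsupp.sum, TensorProduct.tmul_sum]
    refine Finset.sum_eq_zero fun i _ => ?_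
    rw [← TensorProduct.smul_tmul, Algebra.smul_def, mul_one]
    have h0 : algebraMap L (IsLocalRing.ResidueField L) (b.repr v i) = 0 :=
      (IsLocalRing.residue_eq_zero_iff _).2 (hne i)
    rw [h0, TensorProduct.zero_tmul]
  let ℓ : Ω[L⁄k] →ₗ[L] L := (↑hi.unit⁻¹ : L) • b.coord i
  have hℓ : ℓ v = 1 := hi.val_inv_mul
  let μ := mapBaseChange k k[X] L
  let dX : L ⊗[k[X]] Ω[k[X]⁄k] := 1 ⊗ₜ D k k[X] X
  have hμ : μ dX = v := by
    simp only [μ, dX, mapBaseChange_tmul, one_smul, KaehlerDifferential.map_D]
    rfl
  have hspan : ∀ z, ∃ a : L, z = a • dX := by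
    intro z
    induction z using TensorProduct.induction_on with
    | zero => exact ⟨0, (zero_smul _ _).symm⟩
    | tmul a ω =>
      obtain ⟨p, rfl⟩ := (KaehlerDifferential.polynomialEquiv k).symm.surjective ω
      refine ⟨a * algebraMap k[X] L p, ?_⟩
      have hX : (KaehlerDifferential.polynomialEquiv k).symm p = p • D k k[X] X := by
        apply (KaehlerDifferential.polynomialEquiv k).injective
        rw [LinearEquiv.apply_symm_apply, map_smul, KaehlerDifferential.polynomialEquiv_D, derivative_X,
          smul_eq_mul, mul_one]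
      rw [hX, TensorProduct.tmul_smul, TensorProduct.smul_tmul', TensorProduct.smul_tmul', smul_eq_mul, mul_one,
        Algebra.smul_def, mul_comm]
    | add x y hx hy =>
      obtain ⟨a, rfl⟩ := hx
      obtain ⟨a', rfl⟩ := hy
      exact ⟨a + a', (add_smul _ _ _).symm⟩
  have hinj : Function.Injective μ := by
    rw [injective_iff_map_eq_zero]
    intro z hz
    obtain ⟨a, rfl⟩ := hspan z
    rw [map_smul, hμ] at hz
    have := congrArg ℓ hz
    rw [map_smul, hℓ, smul_eq_mul, mul_one, map_zero] at this
    rw [this, zero_smul]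
  have h2 : Subsingleton (Algebra.H1Cotangent k[X] L) := by
    refine subsingleton_of_forall_eq 0 fun z => ?_
    have h0 : Algebra.H1Cotangent.δ k k[X] L z = 0 := by
      apply hinj
      rw [map_zero]
      exact (Algebra.H1Cotangent.exact_δ_mapBaseChange k k[X] L).apply_apply_eq_zero z
    obtain ⟨w, rfl⟩ := (Algebra.H1Cotangent.exact_map_δ k k[X] L z).1 h0
    rw [Subsingleton.elim w 0, map_zero]
  let π := KaehlerDifferential.map k k[X] L L
  let P : Ω[L⁄k] →ₗ[L] Ω[L⁄k] := LinearMap.id - ℓ.smulRight v
  have hexact := KaehlerDifferential.exact_mapBaseChange_map k k[X] L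
  have hker : LinearMap.ker π ≤ LinearMap.ker P := by
    intro x hx
    obtain ⟨z, rfl⟩ := (hexact x).1 hx
    obtain ⟨a, rfl⟩ := hspan z
    show P (μ (a • dX)) = 0
    rw [map_smul, map_smul, hμ]
    simp [P, hℓ]
  have hsurj : Function.Surjective π := KaehlerDifferential.map_surjective k k[X] L
  let i' : Ω[L⁄k[X]] →ₗ[L] Ω[L⁄k] :=
    (LinearMap.ker π).liftQ P hker ∘ₗ (π.quotKerEquivOfSurjective hsurj).symm.toLinearMap
  have h1 : Module.Projective L Ω[L⁄k[X]] := by
    refine Module.Projective.of_split i' π (LinearMap.ext fun y => ?_)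
    obtain ⟨x, rfl⟩ := hsurj y
    have : (π.quotKerEquivOfSurjective hsurj).symm (π x) = Submodule.Quotient.mk x := by
      rw [LinearEquiv.symm_apply_eq]; rfl
    show π (i' (π x)) = π x
    have hv : π v = 0 := hμ ▸ hexact.apply_apply_eq_zero dX
    simp [i', this, P, map_sub, map_smul, hv]
  exact ⟨h1, h2⟩

theorem exists_unit_smooth (k B : Type u) [Field k] [Infinite k] [CommRing B] [Algebra k B]
    [Algebra.FiniteType k B] (u : B) (q : Ideal B) [q.IsPrime] {ι : Type} [Finite ι]
    (p : ι → Ideal B) [∀ i, (p i).IsPrime] (hpq : ∀ i, p i ≤ q) (huq : u ∈ q) (hup : ∀ i, u ∉ p i)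
    (hsm : ∀ i, Algebra.IsSmoothAt k (p i)) :
    ∃ e : B, e ∉ q ∧ ∀ i, ∃ g : B, g * e ∉ p i ∧
      ((algebraMap B (Localization.Away (g * e))).comp (aeval (R := k) (e * u)).toRingHom).Smooth := by
  classical
  let V : ι → Submodule k B := fun i =>
    LinearMap.ker ((((TensorProduct.mk (Localization.AtPrime (p i))
        (IsLocalRing.ResidueField (Localization.AtPrime (p i))) Ω[Localization.AtPrime (p i)⁄k]) 1).restrictScalars k) ∘ₗ
      (D k (Localization.AtPrime (p i))).toLinearMap ∘ₗ
      (IsScalarTower.toAlgHom k B (Localization.AtPrime (p i))).toLinearMap ∘ₗ LinearMap.mulRight k u)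
  have hV : ∀ i e, e ∈ V i ↔ (1 : IsLocalRing.ResidueField (Localization.AtPrime (p i))) ⊗ₜ[Localization.AtPrime (p i)]
      D k (Localization.AtPrime (p i)) (algebraMap B (Localization.AtPrime (p i)) (e * u)) = 0 := fun _ _ => Iff.rfl
  haveI hess : ∀ i, Algebra.EssFiniteType k (Localization.AtPrime (p i)) := fun i => by
    haveI : Algebra.EssFiniteType B (Localization.AtPrime (p i)) := .of_isLocalization _ (p i).primeCompl
    exact .comp k B _
  have hne : ∀ i, V i ≠ ⊤ := by
    intro i htop
    let L := Localization.AtPrime (p i)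
    let κ := IsLocalRing.ResidueField L
    let T : L → κ ⊗[L] Ω[L⁄k] := fun z => 1 ⊗ₜ D k L z
    have hT : ∀ a b : L, T (a * b) = a • T b + b • T a := fun a b => by
      simp only [T, Derivation.leibniz, TensorProduct.tmul_add, TensorProduct.tmul_smul]
    have hall : ∀ e : B, T (algebraMap B L (e * u)) = 0 := fun e => (hV i e).1 (htop ▸ trivial)
    have huu : IsUnit (algebraMap B L u) := IsLocalization.map_units L (⟨u, hup i⟩ : (p i).primeCompl)
    have hTB : ∀ e : B, T (algebraMap B L e) = 0 := fun e => by
      have h1 := hall e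
      have h2 : T (algebraMap B L u) = 0 := by simpa using hall 1
      rw [map_mul, hT, h2, smul_zero, zero_add] at h1
      exact huu.smul_eq_zero.1 h1
    have hTL : ∀ z : L, T z = 0 := fun z => by
      obtain ⟨⟨b, s⟩, hbs⟩ := IsLocalization.surj (p i).primeCompl z
      have h1 := hTB b
      rw [← hbs, hT, hTB, smul_zero, zero_add] at h1
      exact (IsLocalization.map_units L s).smul_eq_zero.1 h1
    haveI : Subsingleton (κ ⊗[L] Ω[L⁄k]) := by
      refine subsingleton_of_forall_eq 0 fun z => ?_
      induction z using TensorProduct.induction_on with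
      | zero => rfl
      | add x y hx hy => rw [hx, hy, add_zero]
      | tmul c ω =>
        obtain ⟨c, rfl⟩ := IsLocalRing.residue_surjective c
        have hω : ω ∈ Submodule.span L (Set.range (D k L)) := by rw [span_range_derivation]; trivial
        have h0 : (1 : κ) ⊗ₜ[L] ω = 0 := by
          induction hω using Submodule.span_induction with
          | mem x hx => obtain ⟨z, rfl⟩ := hx; exact hTL z
          | zero => rw [TensorProduct.tmul_zero]
          | add x y _ _ hx hy => rw [TensorProduct.tmul_add, hx, hy, add_zero]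
          | smul a x _ hx => rw [TensorProduct.tmul_smul, hx, smul_zero]
        rw [show IsLocalRing.residue L c = c • (1 : κ) by rw [Algebra.smul_def, mul_one]; rfl,
          TensorProduct.smul_tmul, TensorProduct.tmul_smul, h0, smul_zero]
    haveI : Subsingleton Ω[L⁄k] := IsLocalRing.subsingleton_tensorProduct.1 this
    haveI : Algebra.FormallyUnramified k L := ⟨this⟩
    haveI : Module.Finite k L := Algebra.FormallyUnramified.finite_of_free k L
    haveI : Algebra.IsIntegral B L := Algebra.IsIntegral.tower_top k
    have hmax : (p i).IsMaximal := by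
      rw [← Localization.AtPrime.comap_maximalIdeal (I := p i)]
      exact Ideal.isMaximal_comap_of_isIntegral_of_isMaximal _
    exact hup i (hmax.eq_of_le (Ideal.IsPrime.ne_top ‹_›) (hpq i) ▸ huq)
  obtain ⟨e, he⟩ := Submodule.exists_forall_notMem_of_forall_ne_top
    (fun o : Option ι => o.elim (q.restrictScalars k) V) (fun o => by
      cases o with
      | none =>
        intro h
        exact Ideal.IsPrime.ne_top ‹q.IsPrime› ((Submodule.restrictScalars_eq_top_iff k B B).1 h)
      | some i => exact hne i)
  have heq : e ∉ q := he none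
  refine ⟨e, heq, fun i => ?_⟩
  haveI := hsm i
  letI : Algebra k[X] B := (aeval (R := k) (e * u)).toRingHom.toAlgebra
  haveI : IsScalarTower k k[X] B := IsScalarTower.of_algHom (aeval (R := k) (e * u))
  haveI : Algebra.FinitePresentation k B := Algebra.FinitePresentation.of_finiteType.mp inferInstance
  haveI : Algebra.FinitePresentation k[X] B :=
    Algebra.FinitePresentation.of_restrict_scalars_finitePresentation k _ _
  let L := Localization.AtPrime (p i)
  haveI : IsScalarTower k k[X] L := IsScalarTower.of_algebraMap_eq fun c => by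
    rw [IsScalarTower.algebraMap_apply k[X] B L, ← IsScalarTower.algebraMap_apply k k[X] B,
      ← IsScalarTower.algebraMap_apply]
  haveI : Algebra.IsSmoothAt k[X] (p i) := formallySmooth_polynomial k L (by
    rw [IsScalarTower.algebraMap_apply k[X] B L, show algebraMap k[X] B X = e * u from aeval_X _]
    exact fun h => he (some i) ((hV i e).2 h))
  obtain ⟨g, hg, hgs⟩ := Algebra.IsSmoothAt.exists_notMem_smooth k[X] (p i)
  have hge : g * e ∉ p i := fun h => ((Ideal.IsPrime.mem_or_mem (inferInstance : (p i).IsPrime) h).elim hg fun h' => heq (hpq i h'))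
  refine ⟨g, hge, ?_⟩
  haveI : Algebra.Smooth k[X] (Localization.Away (g * e)) := by
    rw [← Algebra.basicOpen_subset_smoothLocus_iff_smooth]
    exact (SetLike.coe_subset_coe.2 (PrimeSpectrum.basicOpen_mul_le_left g e)).trans
      (Algebra.basicOpen_subset_smoothLocus_iff_smooth.2 hgs)
  rw [show (algebraMap B (Localization.Away (g * e))).comp (aeval (R := k) (e * u)).toRingHom =
      algebraMap k[X] (Localization.Away (g * e)) from (IsScalarTower.algebraMap_eq _ _ _).symm]
  exact RingHom.smooth_algebraMap.2 inferInstance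

end Groth.Agent.MovSmoothFn
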