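import Mathlib
import Groth.Agent.MovSmoothFn.Alg

/-! Scheme form of the smoothing by a unit. -/

set_option autoImplicit false
set_option backward.isDefEq.respectTransparency false

universe u

open CategoryTheory Limits AlgebraicGeometry Polynomial

namespace Groth.Agent.MovSmoothFn

variable {k : Type u} [Field k] (X : Scheme.{u}) (f : X ⟶ Spec (CommRingCat.of k))

/-- The structure map on sections. -/
noncomputable def kap (V : X.Opens) : CommRingCat.of k ⟶ Γ(X, V) :=
  (Scheme.ΓSpecIso (CommRingCat.of k)).inv ≫ f.appTop ≫ X.presheaf.map (homOfLE (le_top : V ≤ ⊤)).op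

theorem ι_comp (V : X.Opens) : V.ι ≫ f = V.toSpecΓ ≫ Spec.map (kap X f V) := by
  rw [kap, Spec.map_comp, Spec.map_comp, Category.assoc, Scheme.Opens.toSpecΓ_SpecMap_presheaf_map_top_assoc,
    ← Scheme.toSpecΓ_naturality_assoc, toSpecΓ_SpecMap_ΓSpecIso_inv, Category.comp_id]

theorem exists_smooth [Infinite k] [LocallyOfFiniteType f] (u : Γ(X, ⊤))
    [Smooth ((X.basicOpen u).ι ≫ f)]
    (x : X) (hx : x ∉ X.basicOpen u)
    {ι : Type} [Finite ι] (x' : ι → X) (hx' : ∀ i, x' i ∈ X.basicOpen u) (hgen : ∀ i, x' i ⤳ x) :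
    ∃ (X' : X.Opens) (e : Γ(X, X')) (g : (↑X' : Scheme.{u}) ⟶ Spec (CommRingCat.of (Polynomial k))),
      x ∈ X' ∧ IsUnit e ∧
      g ≫ Spec.map (CommRingCat.ofHom (Polynomial.C : k →+* Polynomial k)) = X'.ι ≫ f ∧
      X'.topIso.hom (g.appTop ((Scheme.ΓSpecIso (CommRingCat.of (Polynomial k))).inv Polynomial.X)) =
        e * X.presheaf.map (homOfLE le_top).op u ∧
      ∀ i, ∃ (W : X.Opens) (hW : W ≤ X'), x' i ∈ W ∧ Smooth (X.homOfLE hW ≫ g) := by
  obtain ⟨_, ⟨W, hW, rfl⟩, hxW, -⟩ :=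
    X.isBasis_affineOpens.exists_subset_of_mem_open (Set.mem_univ x) isOpen_univ
  have hxi : ∀ i, x' i ∈ W := fun i => (hgen i).mem_open W.2 hxW
  letI : Algebra k Γ(X, W) := (kap X f W).hom.toAlgebra
  haveI : Algebra.FiniteType k Γ(X, W) := by
    refine (?_ : (kap X f W).hom.FiniteType)
    rw [kap, ← Category.assoc, CommRingCat.hom_comp, CommRingCat.hom_comp]
    have h1 := f.finiteType_appLE (isAffineOpen_top _) hW (U := ⊤) le_top
    rw [show f.appLE ⊤ W le_top = f.appTop ≫ X.presheaf.map (homOfLE (le_top : W ≤ ⊤)).op from rfl,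
      CommRingCat.hom_comp] at h1
    rw [← RingHom.comp_assoc]
    exact RingHom.FiniteType.comp h1
      (RingHom.FiniteType.of_surjective _ (Scheme.ΓSpecIso (CommRingCat.of k)).symm.commRingCatIsoToRingEquiv.surjective)
  let u₀ : Γ(X, W) := X.presheaf.map (homOfLE (le_top : W ≤ ⊤)).op u
  have hbu : X.basicOpen u₀ = W ⊓ X.basicOpen u := Scheme.basicOpen_res _ _ _
  have hmem : ∀ (y : X) (hy : y ∈ W) (a : Γ(X, W)),
      y ∈ X.basicOpen a ↔ a ∉ (hW.primeIdealOf ⟨y, hy⟩).asIdeal := fun y hy a => by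
    have h := SetLike.ext_iff.1 (hW.fromSpec_preimage_basicOpen a) (hW.primeIdealOf ⟨y, hy⟩)
    rw [Scheme.Hom.mem_preimage, hW.fromSpec_primeIdealOf] at h
    exact h
  have hle : ∀ i, (hW.primeIdealOf ⟨x' i, hxi i⟩).asIdeal ≤ (hW.primeIdealOf ⟨x, hxW⟩).asIdeal := fun i => by
    rw [PrimeSpectrum.asIdeal_le_asIdeal, PrimeSpectrum.le_iff_specializes,
      ← hW.fromSpec.isOpenEmbedding.isInducing.specializes_iff, hW.fromSpec_primeIdealOf, hW.fromSpec_primeIdealOf]
    exact hgen i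
  have hu1 : u₀ ∈ (hW.primeIdealOf ⟨x, hxW⟩).asIdeal := by
    by_contra hc
    rw [← hmem, hbu] at hc
    exact hx hc.2
  have hu2 : ∀ i, u₀ ∉ (hW.primeIdealOf ⟨x' i, hxi i⟩).asIdeal := fun i => by
    rw [← hmem, hbu]
    exact ⟨hxi i, hx' i⟩
  have hsm : ∀ i, Algebra.IsSmoothAt k (hW.primeIdealOf ⟨x' i, hxi i⟩).asIdeal := by
    intro i
    have h1 : ((X.basicOpen u).ι ≫ f).stalkMap ⟨x' i, hx' i⟩ |>.hom.FormallySmooth :=
      Scheme.Hom.mem_smoothLocus.1 ((((X.basicOpen u).ι ≫ f).smoothLocus_eq_top).ge (Set.mem_univ _))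
    rw [Scheme.Hom.stalkMap_comp] at h1
    have h2 : (f.stalkMap (x' i)).hom.FormallySmooth :=
      (RingHom.FormallySmooth.respectsIso.cancel_right_isIso (f.stalkMap (x' i))
        ((X.basicOpen u).ι.stalkMap ⟨x' i, hx' i⟩)).1 h1
    have h3 := (formallySmooth_stalkMap_iff ⊤ (isAffineOpen_top _) W hW le_top (hxi i)).1 h2
    let ε := (Scheme.ΓSpecIso (CommRingCat.of k)).symm.commRingCatIsoToRingEquiv
    let L := Localization.AtPrime (hW.primeIdealOf ⟨x' i, hxi i⟩).asIdeal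
    let φ : Γ(Spec (CommRingCat.of k), ⊤) →+* L :=
      (algebraMap Γ(X, W) L).comp (f.appLE ⊤ W le_top).hom
    have h4 : φ.FormallySmooth := by
      letI := (f.appLE ⊤ W le_top).hom.toAlgebra
      rw [show φ = algebraMap _ L from (IsScalarTower.algebraMap_eq _ _ _).symm, RingHom.formallySmooth_algebraMap]
      exact h3
    have h5 := RingHom.FormallySmooth.respectsIso.2 φ ε h4
    show Algebra.FormallySmooth k L
    rw [← RingHom.formallySmooth_algebraMap]
    exact h5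
  obtain ⟨e, heq, hg⟩ := exists_unit_smooth k Γ(X, W) u₀ (hW.primeIdealOf ⟨x, hxW⟩).asIdeal
    (fun i => (hW.primeIdealOf ⟨x' i, hxi i⟩).asIdeal) hle hu1 hu2 hsm
  let X' : X.Opens := X.basicOpen e
  have hX'W : X' ≤ W := X.basicOpen_le e
  let ψ : CommRingCat.of k[X] ⟶ Γ(X, W) := CommRingCat.ofHom (aeval (R := k) (e * u₀)).toRingHom
  let ρ : Γ(X, W) ⟶ Γ(X, X') := X.presheaf.map (homOfLE hX'W).op
  refine ⟨X', ρ e, X'.toSpecΓ ≫ Spec.map (ψ ≫ ρ), (hmem x hxW e).2 heq,
    RingedSpace.isUnit_res_basicOpen _ e, ?_, ?_, fun i => ?_⟩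
  · rw [ι_comp, Category.assoc, ← Spec.map_comp]
    congr 2
    ext c
    show X.presheaf.map (homOfLE hX'W).op (aeval (R := k) (e * u₀) (C c)) = _
    rw [aeval_C]
    show X.presheaf.map (homOfLE hX'W).op (kap X f W c) = kap X f X' c
    show X.presheaf.map (homOfLE hX'W).op (X.presheaf.map (homOfLE le_top).op
        (f.appTop ((Scheme.ΓSpecIso (CommRingCat.of k)).inv c))) =
      X.presheaf.map (homOfLE le_top).op (f.appTop ((Scheme.ΓSpecIso (CommRingCat.of k)).inv c))
    rw [← CommRingCat.comp_apply (X.presheaf.map (homOfLE le_top).op), ← X.presheaf.map_comp]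
    rfl
  · rw [Scheme.Hom.comp_appTop, CommRingCat.comp_apply, ← CommRingCat.comp_apply (Scheme.ΓSpecIso _).inv,
      ← Scheme.ΓSpecIso_inv_naturality, CommRingCat.comp_apply, Scheme.Opens.toSpecΓ_appTop]
    simp only [← CommRingCat.comp_apply, Category.assoc, Iso.inv_hom_id_assoc, Iso.inv_hom_id, Category.comp_id]
    show ρ (aeval (R := k) (e * u₀) Polynomial.X) = _
    rw [aeval_X, map_mul]
    congr 1
    show ρ (X.presheaf.map _ u) = _
    rw [← CommRingCat.comp_apply, ← X.presheaf.map_comp]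
    rfl
  · obtain ⟨g, hge, hsmooth⟩ := hg i
    let Wi := X.basicOpen (g * e)
    have hWi : Wi ≤ X' := by
      show X.basicOpen (g * e) ≤ X.basicOpen e
      rw [X.basicOpen_mul]
      exact inf_le_right
    refine ⟨Wi, hWi, (hmem _ (hxi i) _).2 hge, ?_⟩
    rw [← Category.assoc, ← Scheme.Opens.toSpecΓ_SpecMap_presheaf_map Wi X' hWi, Category.assoc, ← Spec.map_comp,
      Category.assoc]
    haveI := hW.isLocalization_basicOpen (g * e)
    let E := (IsLocalization.algEquiv (Submonoid.powers (g * e)) (Localization.Away (g * e)) Γ(X, Wi)).toRingEquiv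
    haveI : IsAffine Wi := hW.basicOpen (g * e)
    haveI : IsIso Wi.toSpecΓ := by
      delta Scheme.Opens.toSpecΓ
      infer_instance
    rw [MorphismProperty.cancel_left_of_respectsIso (P := @Smooth), HasRingHomProperty.Spec_iff (P := @Smooth)]
    have h := RingHom.Smooth.propertyIsLocal.respectsIso.1 _ E hsmooth
    have h6 : (ψ ≫ ρ ≫ X.presheaf.map (homOfLE hWi).op).hom =
        (algebraMap Γ(X, W) Γ(X, Wi)).comp (aeval (R := k) (e * u₀)).toRingHom := by
      rw [← X.presheaf.map_comp]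
      rfl
    rw [h6]
    have h7 : E.toRingHom.comp (algebraMap Γ(X, W) (Localization.Away (g * e))) = algebraMap Γ(X, W) Γ(X, Wi) :=
      RingHom.ext fun b => (IsLocalization.algEquiv (Submonoid.powers (g * e)) (Localization.Away (g * e)) Γ(X, Wi)).commutes b
    rw [← h7, RingHom.comp_assoc]
    exact h

end Groth.Agent.MovSmoothFn
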